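import Mathlib
import Cfsg.Agent.H792.SpHeis_m3
import Cfsg.Prelude.Def_Spor_Conway
import Cfsg.Agent.H794.DefRank_m3
import Cfsg.Agent.H811.SuzCov_mg
import Cfsg.Agent.Prune
set_option linter.all false
prune_inst 0x7f00000000000000000000000000000000000000000000000000000000000000000000000000000000000000000000000000000000000000000000000000000000000000000000000000000000000000003fffffffffffffffffffffffffffbeffbdffffffff
open scoped Cfsg.Agent.FastGrp

-- part: H812/CentThree
section
/-!
# `FullP 3 G` from the centralizer of a 3-central element of order three (helper812)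

`fullP_of_cent_three` : `x` has order three and is inverted by some element, `|G : C(x)| ≡ 1 (mod 3)`, `f : C(x) → H` is
surjective with kernel `⟨x⟩`, `x ∈ C(x)'` and `FullP 3 H`; then `FullP 3 G`.
-/

set_option autoImplicit false

namespace Cfsg.Agent.H812.CentThree

open Subgroup Cfsg Cfsg.Agent.H749

variable {G : Type*} [Group G]

/-- powers of an element of order three -/
theorem mem_three {y x : G} (h3 : orderOf y = 3) (hx : x ∈ zpowers y) : x = 1 ∨ x = y ∨ x = y⁻¹ := by
  obtain ⟨k, hk⟩ := mem_zpowers_iff.1 hx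
  have hy3 : y ^ (3 : ℤ) = 1 := by
    have := pow_orderOf_eq_one y
    rw [h3] at this
    exact_mod_cast this
  have hmod : y ^ k = y ^ (k % 3) := by
    conv_lhs => rw [← Int.emod_add_mul_ediv k 3]
    rw [zpow_add, zpow_mul, hy3, one_zpow, mul_one]
  have hr : k % 3 = 0 ∨ k % 3 = 1 ∨ k % 3 = 2 := by omega
  rcases hr with hr | hr | hr
  · left; rw [← hk, hmod, hr, zpow_zero]
  · right; left; rw [← hk, hmod, hr, zpow_one]
  · right; right
    rw [← hk, hmod, hr, eq_inv_iff_mul_eq_one, ← zpow_add_one]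
    exact hy3

/-- **Fixed points of `x` on its class**: if `|x^G| ≡ 1 (mod 3)` and `x` is inverted in `G`, then `x` commutes with a conjugate
of `x` which is not a power of `x`. -/
theorem exists_commuting [Finite G] {x : G} (hx : orderOf x = 3) (hinv : ∃ w : G, w * x * w⁻¹ = x⁻¹)
    (hidx : (centralizer ({x} : Set G)).index % 3 = 1) :
    ∃ g : G, (g * x * g⁻¹) * x = x * (g * x * g⁻¹) ∧ g * x * g⁻¹ ∉ zpowers x := by
  classical
  have : Fact (Nat.Prime 3) := ⟨Nat.prime_three⟩
  -- the class as an orbit of `ConjAct`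
  let Ω : Type _ := MulAction.orbit (ConjAct G) x
  let X : Subgroup (ConjAct G) := zpowers (ConjAct.toConjAct x)
  have hX : IsPGroup 3 X := by
    refine isPGroup_zpowers ⟨1, ?_⟩
    rw [pow_one, ← map_pow, ← hx, pow_orderOf_eq_one, map_one]
  have hcard : Nat.card Ω = (centralizer ({x} : Set G)).index := by
    rw [Subgroup.index, Nat.card_congr (MulAction.orbitEquivQuotientStabilizer (ConjAct G) x)]
    rw [ConjAct.stabilizer_eq_centralizer]
    rfl
  have h1 := hX.card_modEq_card_fixedPoints Ω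
  rw [hcard] at h1
  by_contra hcon
  push Not at hcon
  -- the fixed points are `x`, `x⁻¹`
  have hx1 : x ≠ 1 := by
    rintro rfl
    rw [orderOf_one] at hx
    norm_num at hx
  have hxx : x ≠ x⁻¹ := by
    intro h
    have h2 : x ^ 2 = 1 := by
      rw [pow_two]
      calc x * x = x * x⁻¹ := by rw [← h]
        _ = 1 := mul_inv_cancel x
    have h3 := orderOf_dvd_of_pow_eq_one h2
    rw [hx] at h3
    norm_num at h3
  obtain ⟨w, hw⟩ := hinv
  let p1 : Ω := ⟨x, MulAction.mem_orbit_self x⟩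
  let p2 : Ω := ⟨x⁻¹, ConjAct.toConjAct w, by
    show ConjAct.toConjAct w • x = x⁻¹
    rw [ConjAct.toConjAct_smul, hw]⟩
  have hfix : ∀ (y : Ω), y ∈ MulAction.fixedPoints X Ω ↔ (y : G) * x = x * (y : G) := by
    intro y
    rw [MulAction.mem_fixedPoints]
    constructor
    · intro h
      have h2 := congrArg Subtype.val (h ⟨ConjAct.toConjAct x, mem_zpowers _⟩)
      have h3 : x * (y : G) * x⁻¹ = y := by
        have e : (ConjAct.toConjAct x) • (y : G) = x * (y : G) * x⁻¹ := ConjAct.toConjAct_smul x (y : G)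
        rw [← e]
        exact h2
      rw [mul_inv_eq_iff_eq_mul] at h3
      exact h3.symm
    · rintro h ⟨g, hg⟩
      obtain ⟨k, rfl⟩ := mem_zpowers_iff.1 hg
      apply Subtype.ext
      show (ConjAct.toConjAct x ^ k) • (y : G) = y
      rw [← map_zpow, ConjAct.toConjAct_smul]
      have h2 : Commute (x ^ k) (y : G) := (show Commute x (y : G) from h.symm).zpow_left k
      rw [h2.eq, mul_inv_cancel_right]
  have hset : MulAction.fixedPoints X Ω = {p1, p2} := by
    ext y
    rw [hfix, Set.mem_insert_iff, Set.mem_singleton_iff]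
    constructor
    · intro h
      obtain ⟨y, g, rfl⟩ := y
      have e : g • x = (ConjAct.ofConjAct g) * x * (ConjAct.ofConjAct g)⁻¹ := ConjAct.smul_def g x
      have h2 := hcon (ConjAct.ofConjAct g) (by rw [← e]; exact h)
      rw [← e] at h2
      rcases mem_three hx h2 with h3 | h3 | h3
      · exfalso
        rw [e] at h3
        exact hx1 (conj_eq_one_iff.1 h3)
      · left
        exact Subtype.ext h3
      · right
        exact Subtype.ext h3
    · rintro (rfl | rfl)
      · rfl
      · show x⁻¹ * x = x * x⁻¹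
        rw [inv_mul_cancel, mul_inv_cancel]
  have h2 : Nat.card (MulAction.fixedPoints X Ω) = 2 := by
    rw [hset, Nat.card_coe_set_eq, Set.ncard_pair]
    intro h
    exact hxx (congrArg Subtype.val h)
  rw [h2] at h1
  have h3 : (centralizer ({x} : Set G)).index % 3 = 2 % 3 := h1
  omega

/-- **`FullP 3 G` from `C(x) / ⟨x⟩`.** -/
theorem fullP_of_cent_three [Finite G] {H : Type*} [Group H] [Finite H] {x : G} (hx : orderOf x = 3)
    (hinv : ∃ w : G, w * x * w⁻¹ = x⁻¹) (hidx : (centralizer ({x} : Set G)).index % 3 = 1)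
    (f : centralizer ({x} : Set G) →* H) (hf : Function.Surjective f)
    (hk : ∀ c : centralizer ({x} : Set G), f c = 1 ↔ (c : G) ∈ zpowers x)
    (hcomm : ∀ c : centralizer ({x} : Set G), (c : G) = x → c ∈ commutator (centralizer ({x} : Set G)))
    (hH : FullP 3 H) : FullP 3 G := by
  have : Fact (Nat.Prime 3) := ⟨Nat.prime_three⟩
  have hxm : x ∈ centralizer ({x} : Set G) := mem_centralizer_singleton_iff.2 rfl
  let C := centralizer ({x} : Set G)
  have hxp : PEl 3 x := ⟨1, by rw [pow_one, ← hx, pow_orderOf_eq_one]⟩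
  have hidx3 : ¬ 3 ∣ (centralizer ({x} : Set G)).index := by
    intro h
    omega
  have hkp : IsPGroup 3 f.ker := by
    rw [isPGroup_iff]
    intro c hc
    have h1 : (c : G) ∈ zpowers x := (hk c).1 hc
    exact PEl.of_map (f := C.subtype) C.subtype_injective (PEl.of_isPGroup (isPGroup_zpowers hxp) h1)
  have hkc : f.ker ≤ center C := by
    intro c hc
    rw [mem_center_iff]
    intro g
    obtain ⟨k, hk'⟩ := mem_zpowers_iff.1 ((hk c).1 hc)
    apply Subtype.ext
    show (g : G) * (c : G) = (c : G) * (g : G)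
    rw [← hk']
    have h2 : Commute (g : G) x := mem_centralizer_singleton_iff.1 g.2
    exact (h2.zpow_right k).eq
  have hkd : f.ker ≤ commutator C := by
    intro c hc
    obtain ⟨k, hk'⟩ := mem_zpowers_iff.1 ((hk c).1 hc)
    have h3 : c = (⟨x, hxm⟩ : C) ^ k := Subtype.ext (by rw [SubgroupClass.coe_zpow]; exact hk'.symm)
    rw [h3]
    exact zpow_mem (hcomm ⟨x, hxm⟩ rfl) k
  rintro P hP ⟨z, hz, hz1, hPz⟩ y hy
  -- an element of the class outside `⟨x⟩`
  obtain ⟨u, hu, hu1, hPu⟩ : ∃ u : C, PEl 3 (u : G) ∧ (u : G) ∉ zpowers x ∧ P (u : G) := by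
    obtain ⟨g, hg⟩ := exists_conj_mem C hidx3 hz
    by_cases h1 : g * z * g⁻¹ ∈ zpowers x
    · have hPx : P x := by
        rcases mem_three hx h1 with h2 | h2 | h2
        · exact absurd (conj_eq_one_iff.1 h2) hz1
        · rw [← h2]; exact hP.conj g hPz
        · have h3 := hP.inv (hP.conj g hPz)
          rw [h2, inv_inv] at h3
          exact h3
      obtain ⟨k, hk1, hk2⟩ := exists_commuting hx hinv hidx
      exact ⟨⟨k * x * k⁻¹, mem_centralizer_singleton_iff.2 hk1⟩, hxp.conj k, hk2, hP.conj k hPx⟩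
    · exact ⟨⟨g * z * g⁻¹, hg⟩, hz.conj g, h1, hP.conj g hPz⟩
  have hall : ∀ c : C, PEl 3 (c : G) → P (c : G) := by
    intro c hc
    refine H792.SpTool.all_of_central f hf hkp hkc hkd hH (hP.comap C.subtype)
      (PEl.of_map (f := C.subtype) C.subtype_injective hu) ?_ hPu
      (PEl.of_map (f := C.subtype) C.subtype_injective hc)
    intro h
    exact hu1 ((hk u).1 h)
  obtain ⟨g, hg⟩ := exists_conj_mem C hidx3 hy
  exact hP.of_conj (hall ⟨g * y * g⁻¹, hg⟩ (hy.conj g))

end Cfsg.Agent.H812.CentThree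
end

-- part: H812/FullSuz
section
/-!
# `FullP 3` for `Suz` (helper812)

* `fullP_psu_four` : `FullP 3` for `PSU₄(3)`;
* `fullP_suz_three` : the element `y0` of order three has `C(y0) = 3.U₄(3)` of index `45760 ≡ 1 (mod 3)`.
-/

set_option autoImplicit false

namespace Cfsg.Agent.H812.FullSuz

open Subgroup Cfsg Cfsg.Agent.H749
open Cfsg.Agent.SuzThree.ThreeWr (y0)

/-- `PSU₄(3)` -/
theorem fullP_psu_four {F : Type*} [Field F] [Fintype F] (hF : Fintype.card F = 9) [IsSimpleGroup (PSU 4 F 3)]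
    (hc : ∃ a b : PSU 4 F 3, a * b ≠ b * a) [Finite (PSU 4 F 3)] : FullP 3 (PSU 4 F 3) := by
  have : Fact (Nat.Prime 3) := ⟨Nat.prime_three⟩
  have : CharP F 3 := by
    obtain ⟨p, hp⟩ := CharP.exists F
    obtain ⟨n, hprime, hn⟩ := FiniteField.card F p
    rw [hF] at hn
    have h1 : p ∣ 3 ^ 2 := by
      rw [show (3 : ℕ) ^ 2 = 9 by norm_num, hn]
      exact dvd_pow_self p n.ne_zero
    have h2 : p = 3 := (Nat.prime_dvd_prime_iff_eq hprime Nat.prime_three).1 (hprime.dvd_of_dvd_pow h1)
    rw [← h2]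
    exact hp
  exact H792.SpTool.fullP_of_full (H794.DefRank.full_of_rk2 hc (H794.DefRank.rk2_PSU (by rw [hF]; norm_num) le_rfl))

/-- the group `C(y0) / ⟨y0⟩` and its order -/
theorem fullP_H : FullP 3 LThreeCo1Twelve.Gam.H ∧ Nat.card LThreeCo1Twelve.Gam.H = 3265920 := by
  obtain ⟨F, i1, i2, hF, ⟨e⟩⟩ := Cfsg.Agent.H811.PsuH.psu
  have hs := Cfsg.Agent.LThreeCo1Twelve.Gam.simple
  have hs' : IsSimpleGroup (PSU 4 F 3) := e.symm.isSimpleGroup
  have hfin : Finite (PSU 4 F 3) := inferInstance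
  have hc : ∃ a b : PSU 4 F 3, a * b ≠ b * a := by
    by_contra hcon
    push Not at hcon
    apply Cfsg.Agent.LThreeCo1Twelve.Gam.not_comm
    refine ⟨⟨fun a b => e.injective ?_⟩⟩
    rw [map_mul, map_mul]
    exact hcon _ _
  refine ⟨FullP.of_mulEquiv e.symm (fullP_psu_four hF hc), ?_⟩
  rw [Nat.card_congr e.toEquiv]
  have h1 := Cfsg.Agent.S0280.result (F := F) (q := 3) (by rw [hF]; norm_num) 4 (by norm_num)
  have he : Even 2 := by norm_num
  have ho : ¬ Even 1 := by norm_num
  have ho' : ¬ Even 3 := by decide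
  simp [Finset.prod_range_succ, he, ho, ho'] at h1
  omega

theorem index_y0 : (centralizer ({y0} : Set Spor.Suz)).index = 45760 := by
  obtain ⟨g, hs, hk⟩ := Cfsg.Agent.H811.SuzCov.cov
  have hfin : Finite Spor.Suz := Nat.finite_of_card_ne_zero (by
    rw [Cfsg.Agent.SporadicRecognition.SuzOrder.card_Suz]; norm_num)
  have h1 : Nat.card g.ker = 3 := by
    have h2 : g.ker.map (centralizer ({y0} : Set Spor.Suz)).subtype = zpowers y0 := by
      ext x
      constructor
      · rintro ⟨c, hc, rfl⟩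
        exact (hk c).1 hc
      · intro hx
        have hc : x ∈ centralizer ({y0} : Set Spor.Suz) := by
          obtain ⟨k, rfl⟩ := mem_zpowers_iff.1 hx
          exact mem_centralizer_singleton_iff.2 ((Commute.refl y0).zpow_left k).eq
        exact ⟨⟨x, hc⟩, (hk ⟨x, hc⟩).2 hx, rfl⟩
    rw [Nat.card_congr (g.ker.equivMapOfInjective _ (subtype_injective _)).toEquiv, h2, Nat.card_zpowers,
      Cfsg.Agent.CpAutSuz.Local.orderOf_y0]
  have h2 := g.ker.card_mul_index
  rw [Subgroup.index_ker, MonoidHom.range_eq_top.2 hs, Nat.card_congr Subgroup.topEquiv.toEquiv, fullP_H.2, h1] at h2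
  have h3 := (centralizer ({y0} : Set Spor.Suz)).card_mul_index
  rw [← h2, Cfsg.Agent.SporadicRecognition.SuzOrder.card_Suz] at h3
  omega

theorem fullP_suz : FullP 3 Spor.Suz := by
  have hfin : Finite Spor.Suz := Nat.finite_of_card_ne_zero (by
    rw [Cfsg.Agent.SporadicRecognition.SuzOrder.card_Suz]; norm_num)
  have hfin2 : Finite LThreeCo1Twelve.Gam.H := Nat.finite_of_card_ne_zero (by rw [fullP_H.2]; norm_num)
  obtain ⟨g, hs, hk⟩ := Cfsg.Agent.H811.SuzCov.cov
  refine CentThree.fullP_of_cent_three Cfsg.Agent.CpAutSuz.Local.orderOf_y0 ⟨_, Cfsg.Agent.H811.SuzYZero.inv_y0⟩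
    (by rw [index_y0]) g hs hk ?_ fullP_H.1
  intro c hc
  have h1 : c = ⟨y0, mem_centralizer_singleton_iff.2 rfl⟩ := Subtype.ext hc
  rw [h1]
  exact Cfsg.Agent.H811.SuzYZero.mem_comm

/-- **`Suz`, `p = 3`.** -/
theorem fullP_suz_three {G : Type*} [Group G] [Finite G] (h : Cfsg.Spor.IsoSuz G) : Cfsg.Agent.H749.FullP 3 G := by
  obtain ⟨e⟩ := h
  exact FullP.of_mulEquiv e.symm fullP_suz

end Cfsg.Agent.H812.FullSuz
end
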