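import Mathlib
import Cfsg.Agent.J2Type.SylowSeven
import Cfsg.Agent.Prune
set_option linter.all false
prune_inst 0x7f00000000000000000000000000000000000000000000000000000000000000000000000000000000000000000000000000000000000000000000000000000000000000000000000000000000000000003fffffffffffffffffffffffffffbeffbdffffffff
open scoped Cfsg.Agent.FastGrp

/-!
# Transport of centralizers and normalizers along isomorphisms (helper812)
-/

set_option autoImplicit false

namespace Cfsg.Agent.H812.Transport

open Subgroup

variable {G K : Type*} [Group G] [Group K]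

theorem map_centralizer (e : G ≃* K) (B : Subgroup G) :
    (centralizer (B : Set G)).map e.toMonoidHom = centralizer ((B.map e.toMonoidHom : Subgroup K) : Set K) := by
  ext y
  rw [mem_map, mem_centralizer_iff]
  constructor
  · rintro ⟨x, hx, rfl⟩ b hb
    obtain ⟨c, hc, rfl⟩ := mem_map.1 hb
    rw [← map_mul, ← map_mul, (mem_centralizer_iff.1 hx) c hc]
  · intro h
    refine ⟨e.symm y, ?_, e.apply_symm_apply y⟩
    rw [mem_centralizer_iff]
    intro c hc
    apply e.injective
    rw [map_mul, map_mul, e.apply_symm_apply]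
    exact h (e c) (mem_map.2 ⟨c, hc, rfl⟩)

theorem map_normalizer (e : G ≃* K) (B : Subgroup G) :
    (normalizer (B : Set G)).map e.toMonoidHom = normalizer ((B.map e.toMonoidHom : Subgroup K) : Set K) := by
  have hmem : ∀ x : G, e x ∈ B.map e.toMonoidHom ↔ x ∈ B := by
    intro x
    rw [mem_map]
    constructor
    · rintro ⟨z, hz, hzx⟩
      have : z = x := e.injective hzx
      rwa [← this]
    · intro hx
      exact ⟨x, hx, rfl⟩
  ext y
  rw [mem_map, mem_normalizer_iff]
  constructor
  · rintro ⟨x, hx, rfl⟩ b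
    rw [mem_normalizer_iff] at hx
    have h1 := hx (e.symm b)
    rw [← hmem, ← hmem (x * e.symm b * x⁻¹), map_mul, map_mul, map_inv, e.apply_symm_apply] at h1
    exact h1
  · intro h
    refine ⟨e.symm y, ?_, e.apply_symm_apply y⟩
    rw [mem_normalizer_iff]
    intro c
    have h1 := h (e c)
    rw [← hmem, ← hmem (e.symm y * c * (e.symm y)⁻¹), map_mul, map_mul, map_inv, e.apply_symm_apply]
    exact h1

noncomputable def equivMap (e : G ≃* K) (B : Subgroup G) : B ≃* (B.map e.toMonoidHom : Subgroup K) :=
  B.equivMapOfInjective e.toMonoidHom e.injective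

theorem card_map (e : G ≃* K) (B : Subgroup G) : Nat.card (B.map e.toMonoidHom : Subgroup K) = Nat.card B :=
  (Nat.card_congr (equivMap e B).toEquiv).symm

/-- A Sylow subgroup can be mapped onto any given subgroup of the same order by an isomorphism. -/
theorem exists_equiv_sylow [Finite G] {p : ℕ} [hp : Fact p.Prime] (e : G ≃* K) (P : Sylow p G) (Q : Subgroup K)
    (hQ : Nat.card Q = Nat.card P) : ∃ e' : G ≃* K, (P : Subgroup G).map e'.toMonoidHom = Q := by
  obtain ⟨n, hn⟩ := (IsPGroup.iff_card (p := p) (G := (P : Subgroup G))).1 P.isPGroup'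
  have h1 : IsPGroup p (Q.map e.symm.toMonoidHom : Subgroup G) :=
    IsPGroup.of_card (n := n) (by rw [card_map, hQ]; exact hn)
  obtain ⟨R, hR⟩ := h1.exists_le_sylow
  obtain ⟨g, hg⟩ := MulAction.exists_smul_eq G P R
  have h2 : Nat.card R = Nat.card P := by
    rw [← hg]
    exact Nat.card_congr (P.equivSMul g).symm.toEquiv
  have h3 : Q.map e.symm.toMonoidHom = (R : Subgroup G) :=
    eq_of_le_of_card_ge hR (by rw [card_map, hQ, ← h2])
  refine ⟨(MulAut.conj g).trans e, ?_⟩
  have h4 : (P : Subgroup G).map (MulAut.conj g).toMonoidHom = (R : Subgroup G) := by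
    rw [← hg]; rfl
  ext y
  rw [mem_map]
  constructor
  · rintro ⟨x, hx, rfl⟩
    have h5 : (MulAut.conj g) x ∈ (R : Subgroup G) := by
      rw [← h4]; exact mem_map.2 ⟨x, hx, rfl⟩
    rw [← h3] at h5
    obtain ⟨z, hz, hzx⟩ := mem_map.1 h5
    have h6 : e (MulAut.conj g x) = z := by
      rw [← hzx]; exact e.apply_symm_apply z
    show e (MulAut.conj g x) ∈ Q
    rw [h6]; exact hz
  · intro hy
    have h5 : e.symm y ∈ (R : Subgroup G) := by
      rw [← h3]; exact mem_map.2 ⟨y, hy, rfl⟩
    rw [← h4] at h5
    obtain ⟨x, hx, hxy⟩ := mem_map.1 h5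
    refine ⟨x, hx, ?_⟩
    show e (MulAut.conj g x) = y
    have h6 : MulAut.conj g x = e.symm y := hxy
    rw [h6, e.apply_symm_apply]

theorem nonempty_centralizer {e : G ≃* K} {P : Subgroup G} {Q : Subgroup K} (h : P.map e.toMonoidHom = Q) :
    Nonempty (centralizer (P : Set G) ≃* centralizer (Q : Set K)) := by
  refine ⟨(equivMap e (centralizer (P : Set G))).trans (MulEquiv.subgroupCongr ?_)⟩
  rw [map_centralizer, h]

theorem card_normalizer {e : G ≃* K} {P : Subgroup G} {Q : Subgroup K} (h : P.map e.toMonoidHom = Q) :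
    Nat.card (normalizer (P : Set G)) = Nat.card (normalizer (Q : Set K)) := by
  rw [← card_map e, map_normalizer, h]

theorem centralizer_zpowers (x : G) : centralizer ((zpowers x : Subgroup G) : Set G) = centralizer ({x} : Set G) := by
  ext y
  rw [mem_centralizer_iff, mem_centralizer_singleton_iff]
  constructor
  · intro h
    exact (h x (mem_zpowers x)).symm
  · intro h z hz
    obtain ⟨k, rfl⟩ := mem_zpowers_iff.1 hz
    exact ((show Commute y x from h).zpow_right k).eq.symm

end Cfsg.Agent.H812.Transport
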