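import Cfsg.Agent.H6.ORE.CoOne
import Cfsg.Agent.StdG24.AutX_mg_m3
import Cfsg.Agent.KFacts.Co1D4.Main
import Cfsg.Agent.H899.J2Words
import Cfsg.Agent.J2Type.FourSelfCent
import Cfsg.Agent.MFive.JTwo
import Cfsg.Agent.S1619
import Cfsg.Agent.S1620
import Cfsg.Agent.H15.Ext
import Cfsg.Agent.H812.Transport
import Cfsg.Agent.LargeExtra.Cards
import Cfsg.Agent.Lib.Cores
import Cfsg.Agent.CoOneType.CoFold
import Cfsg.Agent.FastGrp
import Cfsg.Agent.Prune
set_option linter.all false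
open scoped Cfsg.Agent.FastGrp

-- part: H812/CoFiveJ
section
/-!
# The images of `JL` in `Co₁` (helper812)

`f : L0 →* Co₁` is the isomorphism of the group on 416 points with the subgroup `GTwo.L`; it maps the letters
`s, t, x, y, q, r, v` of `PWords` to the letters of `CoOneType.Model`.
-/

set_option autoImplicit false
set_option maxRecDepth 20000

namespace Cfsg.Agent.H812.CoFiveJ

open Cfsg Cfsg.Agent.SporadicA Cfsg.Agent.SporadicStructure.Co0Matrix Cfsg.Agent.CoOneType.CoEval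
  Cfsg.Agent.CoOneType
open Cfsg.Agent.StdG24 Cfsg.Agent.StdG24.Perm416 Cfsg.Agent.StdG24.Sift Cfsg.Agent.StdG24.Words
open Cfsg.Agent.KFacts.Co1D4 (Letters.x Letters.e Letters.x_rel)
open CoFiveData

/-- the isomorphism -/
theorem exists_phi : ∃ φ : L0 ≃* KFacts.Co1D4.GTwo.L,
    ∀ i, ((φ ⟨perm i, perm_mem i⟩ : KFacts.Co1D4.GTwo.L) : Spor.Co1) = Letters.x i :=
  Iso416.exists_equiv Letters.x Letters.x_rel KFacts.Co1D4.GTwo.L rfl KFacts.Co1D4.GTwo.card_L.ge

noncomputable def φ : L0 ≃* KFacts.Co1D4.GTwo.L := exists_phi.choose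

theorem φ_perm (i : Fin 6) : ((φ ⟨perm i, perm_mem i⟩ : KFacts.Co1D4.GTwo.L) : Spor.Co1) = Letters.x i :=
  exists_phi.choose_spec i

/-- the embedding -/
noncomputable def f : L0 →* Spor.Co1 := KFacts.Co1D4.GTwo.L.subtype.comp φ.toMonoidHom

theorem f_apply (g : L0) : f g = (φ g : Spor.Co1) := rfl

theorem f_inj : Function.Injective f := fun a b h => φ.injective (Subtype.ext h)

theorem f_mem (g : L0) : f g ∈ KFacts.Co1D4.GTwo.L := (φ g).2

theorem f_lt {c : ℕ} (hc : c < 6) : f ⟨lt c, lt_mem c⟩ = pr (CoFiveData.e (20 + c)) := by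
  have h1 : (⟨lt c, lt_mem c⟩ : L0) = ⟨perm ⟨c, hc⟩, perm_mem ⟨c, hc⟩⟩ := by
    apply Subtype.ext
    show lt c = _
    unfold lt
    rw [dif_pos hc]
  rw [h1, f_apply, φ_perm]
  show pr (Letters.e c) = _
  interval_cases c <;> rfl

theorem pkf_lt (n : ℕ) : ∀ w : ℕ, ∀ c ∈ pkf n w, c < 6 := by
  induction n with
  | zero => intro w c hc; exact absurd hc (List.not_mem_nil)
  | succ n ih =>
    intro w c hc
    change c ∈ cond (Nat.blt (Nat.land w 15) 6) (Nat.land w 15 :: pkf n (Nat.shiftRight w 4)) [] at hc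
    cases h : Nat.blt (Nat.land w 15) 6 with
    | false => rw [h] at hc; exact absurd hc (List.not_mem_nil)
    | true =>
      rw [h, cond_true, List.mem_cons] at hc
      rcases hc with rfl | hc
      · exact blt_iff.1 h
      · exact ih _ c hc

theorem f_word : ∀ (l : List ℕ) (hl : ∀ c ∈ l, c < 6) (hm : (l.map lt).prod ∈ LL),
    f ⟨(l.map lt).prod, hm⟩ = val (l.map (20 + ·)) := by
  intro l
  induction l with
  | nil => intro _ hm; exact map_one f
  | cons c l ih =>
    intro hl hm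
    have hm' : (l.map lt).prod ∈ LL := Subgroup.list_prod_mem _ fun g hg => by
      obtain ⟨c, _, rfl⟩ := List.mem_map.1 hg
      exact lt_mem c
    have h1 : (⟨((c :: l).map lt).prod, hm⟩ : L0) = ⟨lt c, lt_mem c⟩ * ⟨(l.map lt).prod, hm'⟩ := by
      apply Subtype.ext
      show ((c :: l).map lt).prod = lt c * (l.map lt).prod
      rw [List.map_cons, List.prod_cons]
    rw [h1, map_mul, f_lt (hl c List.mem_cons_self), ih (fun c' hc' => hl c' (List.mem_cons_of_mem _ hc')) hm']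
    rfl

/-- the word over `20 … 25` of a list of packed words -/
noncomputable def wd (ws : List ℕ) : List ℕ := (ws.flatMap pk).map (20 + ·)

theorem f_E (ws : List ℕ) : f (E ws) = val (wd ws) := by
  induction ws with
  | nil => exact map_one f
  | cons w ws ih =>
    rw [E_cons, map_mul, ih]
    unfold wd
    rw [List.flatMap_cons, List.map_append, val_append]
    congr 1
    have h1 : E [w] = ⟨el w, el_mem w⟩ := by
      unfold E; rw [List.map_singleton, List.prod_singleton]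
    rw [h1]
    exact f_word (pk w) (pkf_lt _ w) _

private theorem fz : LThreeCo1.Ev.foldZ = CoFold.fF :=
  (funext fun M => funext fun w => funext (LThreeCo1.Ev.foldZ_eq M w)).trans CoFold.fold_fast

private theorem k_all : (sameZ (wd PWords.sW) [0] && sameZ (wd PWords.tW) [1] && sameZ (wd PWords.xW) [2] &&
    sameZ (wd PWords.yW) [4] && sameZ (wd PWords.qW) [10, 11] && sameZ (wd PWords.rW) [10, 9]) = true := by
  delta sameZ
  rw [fz]
  decide +kernel

theorem k_s : sameZ (wd PWords.sW) [0] = true := by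
  have := k_all; simp only [Bool.and_eq_true] at this; exact this.1.1.1.1.1
theorem k_t : sameZ (wd PWords.tW) [1] = true := by
  have := k_all; simp only [Bool.and_eq_true] at this; exact this.1.1.1.1.2
theorem k_x : sameZ (wd PWords.xW) [2] = true := by
  have := k_all; simp only [Bool.and_eq_true] at this; exact this.1.1.1.2
theorem k_y : sameZ (wd PWords.yW) [4] = true := by
  have := k_all; simp only [Bool.and_eq_true] at this; exact this.1.1.2
theorem k_q : sameZ (wd PWords.qW) [10, 11] = true := by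
  have := k_all; simp only [Bool.and_eq_true] at this; exact this.1.2
theorem k_r : sameZ (wd PWords.rW) [10, 9] = true := by
  have := k_all; simp only [Bool.and_eq_true] at this; exact this.2

theorem f_s : f PWords.s = Model.s := by
  rw [PWords.s, f_E, same k_s]; exact mul_one _
theorem f_t : f PWords.t = Model.t := by
  rw [PWords.t, f_E, same k_t]; exact mul_one _
theorem f_x : f PWords.x = Model.x := by
  rw [PWords.x, f_E, same k_x]; exact mul_one _
theorem f_y : f PWords.y = Model.y := by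
  rw [PWords.y, f_E, same k_y]; exact mul_one _
theorem f_q : f PWords.q = Model.g * Model.h := by
  rw [PWords.q, f_E, same k_q]
  show Model.g * (Model.h * 1) = _
  rw [mul_one]
theorem f_r : f PWords.r = Model.g * Model.f := by
  rw [PWords.r, f_E, same k_r]
  show Model.g * (Model.f * 1) = _
  rw [mul_one]

/-- the Hall–Janko group -/
noncomputable def J : Subgroup Spor.Co1 := GenJ.JL.map f

theorem J_le_L : J ≤ KFacts.Co1D4.GTwo.L := by
  rintro _ ⟨a, _, rfl⟩
  exact f_mem a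

/-- what commutes with the six letters commutes with `J` -/
theorem comm_J {c : Spor.Co1} (hs : c * Model.s = Model.s * c) (ht : c * Model.t = Model.t * c)
    (hx : c * Model.x = Model.x * c) (hy : c * Model.y = Model.y * c)
    (hq : c * (Model.g * Model.h) = (Model.g * Model.h) * c)
    (hr : c * (Model.g * Model.f) = (Model.g * Model.f) * c) : ∀ a ∈ J, c * a = a * c := by
  have h1 : GenJ.JL ≤ (Subgroup.centralizer ({c} : Set Spor.Co1)).comap f := by
    refine GenJL.JL_le.trans ?_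
    rw [Subgroup.closure_le]
    intro a ha
    show f a ∈ Subgroup.centralizer ({c} : Set Spor.Co1)
    rw [Subgroup.mem_centralizer_singleton_iff]
    simp only [Set.mem_insert_iff, Set.mem_singleton_iff] at ha
    rcases ha with rfl | rfl | rfl | rfl | rfl | rfl
    · rw [f_s]; exact hs.symm
    · rw [f_t]; exact ht.symm
    · rw [f_x]; exact hx.symm
    · rw [f_y]; exact hy.symm
    · rw [f_q]; exact hq.symm
    · rw [f_r]; exact hr.symm
  rintro _ ⟨a, ha, rfl⟩
  exact (Subgroup.mem_centralizer_singleton_iff.1 (h1 ha)).symm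

theorem p1_J : ∀ a ∈ J, p1 * a = a * p1 := comm_J p1_s p1_t p1_x p1_y p1_q p1_r

end Cfsg.Agent.H812.CoFiveJ
end

-- part: H812/CoFiveA
section
/-!
# `C(p1) = ⟨p1⟩ × J`, `J ≅ J₂`, `C(J) ≅ A₅` in `Co₁` (helper812)
-/

set_option autoImplicit false
set_option maxRecDepth 20000

namespace Cfsg.Agent.H812.CoFiveA

open Cfsg Cfsg.Agent.SporadicA Cfsg.Agent.SporadicStructure.Co0Matrix Cfsg.Agent.CoOneType.CoEval
  Cfsg.Agent.CoOneType
open Cfsg.Agent.StdG24 Cfsg.Agent.StdG24.Perm416 Cfsg.Agent.StdG24.Sift Cfsg.Agent.StdG24.Words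
open Cfsg.Agent.KFacts.Co1D4
open CoFiveData CoFiveJ

/-! ### the order of `JL` -/

/-- the conjugating word and its inverse -/
def hW : ℕ := 0xf5102321045
def hI : ℕ := 0xf5401232015

/-- the five conjugated letters as words in `jg` -/
def ix : List (List ℕ) := [[4,6,5,6,3,2,5,0,6,0], [3,6,3,6,0,5,2,6,5,1], [6,2,4,6,4,2,6], [5,1,6,1,6,4,6,5,6,3],
  [5,6,5,6,0,3,1,6,1,6,1]]

theorem k_ix : ((List.range 5).all fun c => eqc [hW, 0xf0 + c, hI] (gw PWords.jg (ix.getD c []))) = true := by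
  decide +kernel

theorem k_inv : eqc [hW, hI] [] = true := by decide +kernel

theorem perm_eq : ∀ (i : Fin 6) (p : Fin 416), perm i p = H899.Perm416.P i p := by decide +kernel

theorem card_JL : 604800 ≤ Nat.card GenJ.JL := by
  rw [← H899.J2Words.card_Q]
  have e0 : Nat.card GenJ.JL = Nat.card (GenJ.JL.map LL.subtype) :=
    (Subgroup.card_map_of_injective LL.subtype_injective).symm
  have e1 : Nat.card H899.J2Words.Q = Nat.card (H899.J2Words.Q.map (MulAut.conj (el hW)).toMonoidHom) :=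
    (Subgroup.card_map_of_injective (MulAut.conj (el hW)).injective).symm
  rw [e0, e1]
  refine Subgroup.card_le_of_le ?_
  rw [Subgroup.map_le_iff_le_comap]
  unfold H899.J2Words.Q
  rw [Subgroup.closure_le]
  rintro _ ⟨i, hi, rfl⟩
  have hi5 : i.val < 5 := hi
  have hinv : (el hW)⁻¹ = el hI := by
    have h1 := congrArg (Subtype.val : L0 → Equiv.Perm (Fin 416)) (E_eq k_inv)
    have h2 : el hW * el hI = 1 := by
      have e : ((E [hW, hI] : L0) : Equiv.Perm (Fin 416)) = el hW * (el hI * 1) := rfl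
      rw [e, mul_one] at h1
      exact h1
    exact inv_eq_of_mul_eq_one_right h2
  have h3 := List.all_eq_true.1 k_ix i.val (List.mem_range.2 hi5)
  have h4 : E [hW, 0xf0 + i.val, hI] ∈ GenJ.JL := mem_of_gw GenJ.jg_mem h3
  have h5 : ((E [hW, 0xf0 + i.val, hI] : L0) : Equiv.Perm (Fin 416)) = el hW * (el (0xf0 + i.val) * (el hI * 1)) := rfl
  have h6 : el (0xf0 + i.val) = H899.Perm416.P i := by
    have hpk : ∀ c : Fin 6, pk (0xf0 + c.val) = [c.val] := by decide +kernel
    unfold el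
    rw [hpk i, List.map_singleton, List.prod_singleton]
    unfold lt
    rw [dif_pos i.isLt]
    exact Equiv.ext (perm_eq i)
  refine ⟨_, h4, ?_⟩
  show ((E [hW, 0xf0 + i.val, hI] : L0) : Equiv.Perm (Fin 416)) = el hW * H899.Perm416.P i * (el hW)⁻¹
  rw [h5, h6, hinv, mul_one, mul_assoc]

theorem card_J_ge : 604800 ≤ Nat.card J := by
  have h : Nat.card J = Nat.card GenJ.JL := Subgroup.card_map_of_injective f_inj
  rw [h]; exact card_JL

/-! ### the centralizer of `J` -/

/-- the centralizer of `J` -/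
noncomputable abbrev A : Subgroup Spor.Co1 := Subgroup.centralizer (J : Set Spor.Co1)

theorem mem_A {c : Spor.Co1} : c ∈ A ↔ ∀ a ∈ J, a * c = c * a := Subgroup.mem_centralizer_iff

theorem w_A : TwoB.w ∈ A := mem_A.2 fun a ha => TwoB.Lw a (J_le_L ha)
theorem v_A : TwoB.v ∈ A := mem_A.2 fun a ha => TwoB.Lv a (J_le_L ha)
theorem r_A : TwoB.r ∈ A := mem_A.2 fun a ha => TwoB.Lr a (J_le_L ha)
theorem p1_A : p1 ∈ A := mem_A.2 fun a ha => (p1_J a ha).symm

theorem Z_le_A : Main.setup.Z ≤ A := by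
  rintro g (rfl | rfl | rfl | rfl)
  · exact A.one_mem
  · exact w_A
  · exact v_A
  · exact A.mul_mem w_A v_A

/-- the elements of `C(J)` commuting with `w` lie in the four-group -/
theorem mem_Z_of_w {c : Spor.Co1} (hc : c ∈ A) (hw : c * TwoB.w = TwoB.w * c) : c ∈ Main.setup.Z := by
  have := finite_co1
  refine Main.setup.cent c hw ?_
  have hwi : c⁻¹ * TwoB.w = TwoB.w * c⁻¹ := by
    rw [inv_mul_eq_iff_eq_mul, ← mul_assoc, hw, mul_inv_cancel_right]
  have hL : ∀ l ∈ GTwo.L, c * l * c⁻¹ ∈ GTwo.L := fun l hl => Main.setup.conj_L hw hl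
  have hL' : ∀ l ∈ GTwo.L, c⁻¹ * l * c⁻¹⁻¹ ∈ GTwo.L := fun l hl => Main.setup.conj_L hwi hl
  let α : GTwo.L ≃* GTwo.L :=
    { toFun := fun l => ⟨c * l * c⁻¹, hL l l.2⟩
      invFun := fun l => ⟨c⁻¹ * l * c⁻¹⁻¹, hL' l l.2⟩
      left_inv := fun l => Subtype.ext (by
        show c⁻¹ * (c * (l : Spor.Co1) * c⁻¹) * c⁻¹⁻¹ = l
        group)
      right_inv := fun l => Subtype.ext (by
        show c * (c⁻¹ * (l : Spor.Co1) * c⁻¹⁻¹) * c⁻¹ = l
        group)
      map_mul' := fun l m => Subtype.ext (by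
        show c * ((l : Spor.Co1) * m) * c⁻¹ = c * l * c⁻¹ * (c * m * c⁻¹)
        group) }
  have hα : ∀ l : GTwo.L, ((α l : GTwo.L) : Spor.Co1) = c * l * c⁻¹ := fun _ => rfl
  have h1 := AutX.aut_JL ((φ.trans α).trans φ.symm) (by
    intro a ha
    rw [MulEquiv.trans_apply, MulEquiv.trans_apply, MulEquiv.symm_apply_eq]
    apply Subtype.ext
    rw [hα]
    have h2 : f a ∈ J := ⟨a, ha, rfl⟩
    have h3 := mem_A.1 hc _ h2
    show c * f a * c⁻¹ = f a
    rw [← h3, mul_inv_cancel_right])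
  intro l hl
  have h2 := h1 (φ.symm ⟨l, hl⟩)
  rw [MulEquiv.trans_apply, MulEquiv.trans_apply, MulEquiv.symm_apply_eq, MulEquiv.apply_symm_apply] at h2
  have h3 := congrArg (Subtype.val : GTwo.L → Spor.Co1) h2
  rw [hα] at h3
  have h4 : c * l * c⁻¹ = l := h3
  calc c * l = c * l * c⁻¹ * c := by group
    _ = l * c := by rw [h4]

theorem conj_Z {g : Spor.Co1} (hg : TwoB.r⁻¹ * g * TwoB.r ∈ Main.setup.Z) : g ∈ Main.setup.Z := by
  have h0 : g = TwoB.r * (TwoB.r⁻¹ * g * TwoB.r) * TwoB.r⁻¹ := by group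
  rw [h0]
  generalize TwoB.r⁻¹ * g * TwoB.r = y at hg
  rcases hg with rfl | rfl | rfl | rfl
  · rw [mul_one, mul_inv_cancel]; exact Main.setup.Z.one_mem
  · rw [TwoB.rw_]; exact Main.setup.v_mem
  · rw [TwoB.rv]; exact Main.setup.wv_mem
  · have h : TwoB.r * (TwoB.w * TwoB.v) * TwoB.r⁻¹ = (TwoB.r * TwoB.w * TwoB.r⁻¹) * (TwoB.r * TwoB.v * TwoB.r⁻¹) := by
      group
    rw [h, TwoB.rw_, TwoB.rv]
    exact Main.setup.Z.mul_mem Main.setup.v_mem Main.setup.wv_mem

theorem conj_A {c : Spor.Co1} (hc : c ∈ A) : TwoB.r⁻¹ * c * TwoB.r ∈ A :=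
  A.mul_mem (A.mul_mem (A.inv_mem r_A) hc) r_A

theorem comm_conj {c u : Spor.Co1} (h : c * (TwoB.r * u * TwoB.r⁻¹) = (TwoB.r * u * TwoB.r⁻¹) * c) :
    (TwoB.r⁻¹ * c * TwoB.r) * u = u * (TwoB.r⁻¹ * c * TwoB.r) := by
  calc (TwoB.r⁻¹ * c * TwoB.r) * u = TwoB.r⁻¹ * (c * (TwoB.r * u * TwoB.r⁻¹)) * TwoB.r := by group
    _ = TwoB.r⁻¹ * ((TwoB.r * u * TwoB.r⁻¹) * c) * TwoB.r := by rw [h]
    _ = u * (TwoB.r⁻¹ * c * TwoB.r) := by group

theorem mem_Z_of_v {c : Spor.Co1} (hc : c ∈ A) (hv : c * TwoB.v = TwoB.v * c) : c ∈ Main.setup.Z := by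
  apply conj_Z
  apply mem_Z_of_w (conj_A hc)
  apply comm_conj
  rw [TwoB.rw_]
  exact hv

theorem mem_Z_of_wv {c : Spor.Co1} (hc : c ∈ A) (hv : c * (TwoB.w * TwoB.v) = (TwoB.w * TwoB.v) * c) :
    c ∈ Main.setup.Z := by
  apply conj_Z
  apply mem_Z_of_v (conj_A hc)
  apply comm_conj
  rw [TwoB.rv]
  exact hv

theorem mem_Z {c u : Spor.Co1} (hc : c ∈ A) (hu : u ∈ Main.setup.Z) (hu1 : u ≠ 1) (h : c * u = u * c) :
    c ∈ Main.setup.Z := by
  rcases hu with rfl | rfl | rfl | rfl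
  · exact absurd rfl hu1
  · exact mem_Z_of_w hc h
  · exact mem_Z_of_v hc h
  · exact mem_Z_of_wv hc h

theorem sq_Z {u : Spor.Co1} (hu : u ∈ Main.setup.Z) : u * u = 1 := by
  rcases hu with rfl | rfl | rfl | rfl
  · exact one_mul 1
  · exact TwoB.ww
  · exact TwoB.vv
  · calc TwoB.w * TwoB.v * (TwoB.w * TwoB.v) = TwoB.w * (TwoB.v * TwoB.w) * TwoB.v := by group
      _ = (TwoB.w * TwoB.w) * (TwoB.v * TwoB.v) := by rw [← TwoB.wv]; group
      _ = 1 := by rw [TwoB.ww, TwoB.vv, one_mul]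

theorem hyp : J2Type.FourSelfCent.Hyp (Main.setup.Z.subgroupOf A) where
  card4 := by
    rw [Nat.card_congr (Subgroup.subgroupOfEquivOfLe Z_le_A).toEquiv]
    exact Main.setup.card_Z
  sq := fun u hu => Subtype.ext (sq_Z (Subgroup.mem_subgroupOf.1 hu))
  cent := fun u hu hu1 x hx => Subgroup.mem_subgroupOf.2
    (mem_Z x.2 (Subgroup.mem_subgroupOf.1 hu) (fun h => hu1 (Subtype.ext h)) (congrArg Subtype.val hx))

theorem card_A : Nat.card A = 60 := by
  have := finite_co1
  have h5 : 5 ∣ Nat.card A := by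
    have h := orderOf_dvd_natCard (⟨p1, p1_A⟩ : A)
    rwa [Subgroup.orderOf_mk, order_p1] at h
  rcases hyp.card_cases with h | h | h
  · rw [h] at h5; revert h5; decide
  · rw [h] at h5; revert h5; decide
  · exact h

theorem A_equiv : Nonempty (A ≃* alternatingGroup (Fin 5)) := by
  have := finite_co1
  exact hyp.equiv_of_card_60 card_A

/-- `J ∩ C(J) = 1` -/
theorem inf_eq {g : Spor.Co1} (h1 : g ∈ J) (h2 : g ∈ A) : g = 1 :=
  Main.setup.inf_eq g (mem_Z_of_w h2 (TwoB.Lw g (J_le_L h1))) (J_le_L h1)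

end Cfsg.Agent.H812.CoFiveA
end

-- part: H812/CoFiveMain
section
/-!
# Subgroups of order five of `C(z)` in groups of type `Co₁` (helper812)
-/

set_option autoImplicit false
set_option maxRecDepth 20000

namespace Cfsg.Agent.H812.CoFiveMain

open Cfsg Cfsg.Agent.SporadicA Cfsg.Agent.CoOneType
open Subgroup (centralizer mem_centralizer_singleton_iff mem_centralizer_iff)
open CoFiveData CoFiveJ CoFiveA
open Cfsg.Agent.LThreeMB (XX Zx)

/-- `C(p1)` -/
noncomputable abbrev C1 : Subgroup Spor.Co1 := centralizer ({p1} : Set Spor.Co1)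

theorem J_le_C1 : J ≤ C1 := fun a ha => mem_centralizer_singleton_iff.2 (p1_J a ha).symm

/-- the map `J → C(p1) / ⟨p1⟩` -/
noncomputable def ι : J →* XX p1 := (QuotientGroup.mk' (Zx p1)).comp (Subgroup.inclusion J_le_C1)

theorem ι_apply (a : J) : ι a = LThreeMB.mk p1 (g := (a : Spor.Co1)) (p1_J a a.2).symm := rfl

theorem ι_inj : Function.Injective ι := by
  rw [injective_iff_map_eq_one]
  intro a ha
  rw [ι_apply] at ha
  obtain ⟨i, hi⟩ := (LThreeMB.mk_eq_one _).1 ha
  exact Subtype.ext (inf_eq a.2 (by rw [← hi]; exact A.zpow_mem p1_A i))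

theorem iso_XX : Spor.IsoJ2 (XX p1) := MFive.JTwo.isoJ2 order_p1 fr_p1

theorem card_XX : Nat.card (XX p1) = 604800 := by
  obtain ⟨e⟩ := iso_XX
  rw [Nat.card_congr e.toEquiv, S1619.result.2.2.2]

theorem ι_bij : Function.Bijective ι := by
  have := finite_co1
  rw [Nat.bijective_iff_injective_and_card]
  exact ⟨ι_inj, le_antisymm (Nat.card_le_card_of_injective ι ι_inj) (by rw [card_XX]; exact card_J_ge)⟩

theorem isoJ2_J : Spor.IsoJ2 J := by
  obtain ⟨e⟩ := iso_XX
  exact ⟨(MulEquiv.ofBijective ι ι_bij).trans e⟩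

theorem split {c : Spor.Co1} (hc : c ∈ C1) : ∃ i : ℤ, ∃ j ∈ J, c = p1 ^ i * j := by
  obtain ⟨j, hj⟩ := ι_bij.2 (LThreeMB.mk p1 (g := c) (mem_centralizer_singleton_iff.1 hc))
  rw [ι_apply] at hj
  obtain ⟨i, hi⟩ := (LThreeMB.mk_eq_mk _ _).1 hj
  refine ⟨i, j, j.2, ?_⟩
  rw [← hi]
  exact ((show Commute p1 (j : Spor.Co1) from p1_J j j.2).zpow_left i).eq.symm

theorem zp_J (i : ℤ) {j : Spor.Co1} (hj : j ∈ J) : p1 ^ i * j = j * p1 ^ i :=
  ((show Commute p1 j from p1_J j hj).zpow_left i).eq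

theorem normal_J : (J.subgroupOf C1).Normal := by
  constructor
  rintro n hn c
  rw [Subgroup.mem_subgroupOf] at hn ⊢
  show (c : Spor.Co1) * n * (c : Spor.Co1)⁻¹ ∈ J
  obtain ⟨i, j, hj, hc⟩ := split c.2
  have hm : j * (n : Spor.Co1) * j⁻¹ ∈ J := J.mul_mem (J.mul_mem hj hn) (J.inv_mem hj)
  have h : (c : Spor.Co1) * n * (c : Spor.Co1)⁻¹ = j * n * j⁻¹ := by
    rw [hc, mul_inv_rev]
    calc p1 ^ i * j * (n : Spor.Co1) * (j⁻¹ * (p1 ^ i)⁻¹) = p1 ^ i * (j * (n : Spor.Co1) * j⁻¹) * (p1 ^ i)⁻¹ := by group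
      _ = j * (n : Spor.Co1) * j⁻¹ * p1 ^ i * (p1 ^ i)⁻¹ := by rw [zp_J i hm]
      _ = _ := by group
  rw [h]; exact hm

theorem comm_C1 (a b : C1) : a * b * a⁻¹ * b⁻¹ ∈ J.subgroupOf C1 := by
  rw [Subgroup.mem_subgroupOf]
  show (a : Spor.Co1) * b * (a : Spor.Co1)⁻¹ * (b : Spor.Co1)⁻¹ ∈ J
  obtain ⟨i, j, hj, ha⟩ := split a.2
  obtain ⟨k, l, hl, hb⟩ := split b.2
  have h : (a : Spor.Co1) * b * (a : Spor.Co1)⁻¹ * (b : Spor.Co1)⁻¹ = j * l * j⁻¹ * l⁻¹ := by
    have e1 : p1 ^ k * j = j * p1 ^ k := zp_J k hj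
    have e2 : p1 ^ i * l = l * p1 ^ i := zp_J i hl
    have e3 : p1 ^ i * p1 ^ k = p1 ^ k * p1 ^ i := by rw [← zpow_add, ← zpow_add, add_comm]
    have e4 : (a : Spor.Co1) * b = p1 ^ i * p1 ^ k * (j * l) := by
      rw [ha, hb]
      calc p1 ^ i * j * (p1 ^ k * l) = p1 ^ i * (j * p1 ^ k) * l := by group
        _ = p1 ^ i * (p1 ^ k * j) * l := by rw [e1]
        _ = _ := by group
    have e5 : (b : Spor.Co1) * a = p1 ^ i * p1 ^ k * (l * j) := by
      rw [ha, hb]
      calc p1 ^ k * l * (p1 ^ i * j) = p1 ^ k * (l * p1 ^ i) * j := by group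
        _ = p1 ^ k * (p1 ^ i * l) * j := by rw [e2]
        _ = (p1 ^ k * p1 ^ i) * (l * j) := by group
        _ = _ := by rw [e3]
    have e6 : p1 ^ i * p1 ^ k * (j * l * (l * j)⁻¹) = (j * l * (l * j)⁻¹) * (p1 ^ i * p1 ^ k) := by
      rw [← zpow_add]
      exact zp_J _ (J.mul_mem (J.mul_mem hj hl) (J.inv_mem (J.mul_mem hl hj)))
    calc (a : Spor.Co1) * b * (a : Spor.Co1)⁻¹ * (b : Spor.Co1)⁻¹ = (a : Spor.Co1) * b * ((b : Spor.Co1) * a)⁻¹ := by group
      _ = p1 ^ i * p1 ^ k * (j * l * (l * j)⁻¹) * (p1 ^ i * p1 ^ k)⁻¹ := by rw [e4, e5]; group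
      _ = j * l * j⁻¹ * l⁻¹ := by rw [e6]; group
  rw [h]
  exact J.mul_mem (J.mul_mem (J.mul_mem hj hl) (J.inv_mem hj)) (J.inv_mem hl)

theorem layer_C1 : layer ↥C1 = J.subgroupOf C1 := by
  obtain ⟨e⟩ := isoJ2_J
  have e' : (J.subgroupOf C1) ≃* Spor.J2 := (Subgroup.subgroupOfEquivOfLe J_le_C1).trans e
  have hs : IsSimpleGroup Spor.J2 := S1620.result.1
  have hs' : IsSimpleGroup (J.subgroupOf C1) := e'.isSimpleGroup
  obtain ⟨a, b, hab⟩ := S1620.result.2
  refine LayerSimple.layer_eq _ normal_J hs' ⟨e'.symm a, e'.symm b, fun h => hab ?_⟩ comm_C1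
  have h1 := congrArg e' h
  rwa [map_mul, map_mul, e'.apply_symm_apply, e'.apply_symm_apply] at h1

/-- the conclusion for a subgroup `C` -/
def Concl {G : Type*} [Group G] (C : Subgroup G) : Prop :=
  Spor.IsoJ2 ↥(layer ↥C) ∧
    Nonempty (↥(centralizer (((layer ↥C).map (Subgroup.subtype C) : Subgroup G) : Set G)) ≃* alternatingGroup (Fin 5))

theorem concl_C1 : Concl C1 := by
  unfold Concl
  rw [layer_C1]
  refine ⟨?_, ?_⟩
  · obtain ⟨e⟩ := isoJ2_J
    exact ⟨(Subgroup.subgroupOfEquivOfLe J_le_C1).trans e⟩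
  · rw [Subgroup.map_subgroupOf_eq_of_le J_le_C1]
    exact A_equiv

theorem Concl.of_equiv {G K : Type*} [Group G] [Group K] (e : G ≃* K) {C : Subgroup G} {C' : Subgroup K}
    (h : C.map e.toMonoidHom = C') (hC : Concl C') : Concl C := by
  subst h
  let eC : C ≃* (C.map e.toMonoidHom : Subgroup K) := Transport.equivMap e C
  have hl : (layer ↥C).map eC.toMonoidHom = layer ↥(C.map e.toMonoidHom : Subgroup K) :=
    SignalizersComponents.LayerBasic.layer_map_equiv eC
  have h2 : ((layer ↥C).map C.subtype).map e.toMonoidHom =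
      (layer ↥(C.map e.toMonoidHom : Subgroup K)).map (C.map e.toMonoidHom : Subgroup K).subtype := by
    rw [← hl, Subgroup.map_map, Subgroup.map_map]
    rfl
  obtain ⟨⟨e1⟩, ⟨e2⟩⟩ := hC
  refine ⟨⟨((Transport.equivMap eC (layer ↥C)).trans (MulEquiv.subgroupCongr hl)).trans e1⟩, ?_⟩
  obtain ⟨e3⟩ := Transport.nonempty_centralizer h2
  exact ⟨e3.trans e2⟩

/-! ### the isomorphism with `Co₁` -/

open Cfsg.Agent.CoOneType.SignFacts (wt)
open Cfsg.Agent.CoOneType.GenCrit (c0)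
open KFacts.Co1.InCo1 (RCo1)

/-- the class of an involution whose centralizer has the order of that of an octad -/
theorem isConj_z {G : Type*} [Group G] (ψ : G ≃* Spor.Co1) {y : G} (hz : orderOf y = 2)
    (hC : Nat.card (centralizer ({y} : Set G)) = 89181388800) : IsConj z (ψ y) := by
  have hzz : ψ y * ψ y = 1 := by
    rw [← map_mul, ← pow_two, ← hz, pow_orderOf_eq_one, map_one]
  have hz1 : ψ y ≠ 1 := by
    intro h
    rw [map_eq_one_iff ψ ψ.injective] at h
    rw [h, orderOf_one] at hz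
    omega
  have hC' : Nat.card (centralizer ({ψ y} : Set Spor.Co1)) = 89181388800 := by
    rw [← hC]
    have h1 : centralizer ({ψ y} : Set Spor.Co1) = (centralizer ({y} : Set G)).map ψ.toMonoidHom := by
      ext c
      rw [mem_centralizer_singleton_iff, Subgroup.mem_map]
      constructor
      · intro h
        refine ⟨ψ.symm c, ?_, ψ.apply_symm_apply c⟩
        rw [mem_centralizer_singleton_iff]
        apply ψ.injective
        rw [map_mul, map_mul, ψ.apply_symm_apply, h]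
      · rintro ⟨d, hd, rfl⟩
        rw [mem_centralizer_singleton_iff] at hd
        show ψ d * ψ y = ψ y * ψ d
        rw [← map_mul, hd, map_mul]
    rw [h1]
    exact Nat.card_congr ((centralizer ({y} : Set G)).equivMapOfInjective ψ.toMonoidHom
      ψ.injective).symm.toEquiv
  obtain ⟨d, hd⟩ := ClosingCo1.exists_dodecad
  rcases ClosingFacts.co1_cases c0 d ClosingCo1.a1 ClosingCo1.a1' wt_c0 hd (ψ y) hzz hz1 with h | h | ⟨t, ht, h⟩
  · exact h
  · exfalso
    have h11 := ClosingFacts.isConj_dvd h (Thirteen.eleven_dvd d hd)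
    rw [hC'] at h11
    revert h11; norm_num
  · exfalso
    have h13 := Thirteen.thirteen_dvd_of_conj t h
    have h14 : (13 : ℕ) ∣ Nat.card (centralizer ({ClosingFacts.mk t} : Set Spor.Co1)) := h13
    rw [ht, hC'] at h14
    revert h14; norm_num

/-- the isomorphism can be chosen to map the involution to `z` -/
theorem exists_iso {G : Type*} [Group G] (ψ : G ≃* Spor.Co1) {y : G} (hz : orderOf y = 2)
    (hC : Nat.card (centralizer ({y} : Set G)) = 89181388800) : ∃ ψ : G ≃* Spor.Co1, ψ y = z := by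
  obtain ⟨g, hg⟩ := isConj_iff.1 (isConj_z ψ hz hC)
  refine ⟨ψ.trans (MulAut.conj g⁻¹), ?_⟩
  show g⁻¹ * ψ y * g⁻¹⁻¹ = z
  rw [← hg]; group

/-- the isomorphism can be chosen to map `B` to `⟨p1⟩` (auxiliary form) -/
theorem exists_iso_aux {G : Type*} [Group G] [Finite G] (y : G) (C : Subgroup G)
    (hCdef : C = centralizer ({y} : Set G)) (Q : Subgroup C) [Q.Normal]
    (hF : Cfsg.generalizedFittingSubgroup C = Q) (hcard : Nat.card Q = 2 ^ 9)
    (hC : Nat.card C = 89181388800)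
    (B : Subgroup C) (hB : Nat.card B = 5) (h32 : Nat.card ↥(Q ⊓ centralizer (B : Set C)) = 32)
    (ψ : G ≃* Spor.Co1) (hψ : ψ y = z) :
    ∃ ψ : G ≃* Spor.Co1, (B.map C.subtype).map ψ.toMonoidHom = Subgroup.zpowers p1 := by
  have hfin : Finite Spor.Co1 := Finite.of_equiv G ψ.toEquiv
  set RQ : Subgroup Spor.Co1 := RCo1 c0 with hRQ
  have hlarge := KFacts.Co1.InCo1.large wt_c0
  have hR512 : Nat.card RQ = 512 := KFacts.Co1.YBig.card_R wt_c0
  set D : Subgroup Spor.Co1 := centralizer ({z} : Set Spor.Co1) with hD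
  have hmemC : ∀ c : G, c ∈ C ↔ ψ c ∈ D := by
    intro c
    rw [hCdef, mem_centralizer_singleton_iff, hD, mem_centralizer_singleton_iff, ← hψ,
      ← map_mul, ← map_mul]
    exact ψ.injective.eq_iff.symm
  have hCmap : C.map ψ.toMonoidHom = D := by
    ext c
    constructor
    · rintro ⟨d, hd, rfl⟩; exact (hmemC d).1 hd
    · intro hc
      refine ⟨ψ.symm c, (hmemC _).2 ?_, ψ.apply_symm_apply c⟩
      rw [ψ.apply_symm_apply]; exact hc
  have hcD : Nat.card D = 89181388800 := by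
    rw [← hCmap, Nat.card_congr (C.equivMapOfInjective ψ.toMonoidHom ψ.injective).symm.toEquiv, hC]
  let f : C →* Spor.Co1 := ψ.toMonoidHom.comp C.subtype
  have hfinj : Function.Injective f := ψ.injective.comp Subtype.val_injective
  have hfC : ∀ c : C, f c ∈ D := fun c => (hmemC c).1 c.2
  have hnorm : ∀ c ∈ D, ∀ q ∈ RQ, c * q * c⁻¹ ∈ RQ := fun c hc q hq =>
    hlarge.conj_mem c (mem_centralizer_singleton_iff.1 hc) q hq
  have hRQC : ∀ q ∈ RQ, q ∈ D := fun q hq =>
    mem_centralizer_singleton_iff.2 (hlarge.comm_z q hq)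
  have hpR : IsPGroup 2 RQ := IsPGroup.of_card (n := 9) (by rw [hR512]; norm_num)
  -- `RQ` is contained in the image of `Q`
  have hN : RQ.comap f ≤ Q := by
    have hp : IsPGroup 2 (RQ.comap f) := hpR.comap_of_injective f hfinj
    have h2 : Fact (Nat.Prime 2) := ⟨Nat.prime_two⟩
    have hnil : Group.IsNilpotent (RQ.comap f) := hp.isNilpotent
    have hnor : (RQ.comap f).Normal := by
      constructor
      intro n hn c
      show f (c * n * c⁻¹) ∈ RQ
      rw [map_mul, map_mul, map_inv]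
      exact hnorm (f c) (hfC c) (f n) hn
    have h3 : RQ.comap f ≤ Cfsg.fittingSubgroup C := le_sSup ⟨hnor, hnil⟩
    refine h3.trans ?_
    rw [← hF]; exact le_sup_right
  have hQle : RQ ≤ Q.map f := by
    intro u hu
    have hu1 : ψ.symm u ∈ C := by
      rw [hmemC, ψ.apply_symm_apply]; exact hRQC u hu
    have hfu : f ⟨ψ.symm u, hu1⟩ = u := ψ.apply_symm_apply u
    have h1 : (⟨ψ.symm u, hu1⟩ : C) ∈ Q := hN (by
      show f ⟨ψ.symm u, hu1⟩ ∈ RQ
      rw [hfu]; exact hu)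
    exact ⟨⟨ψ.symm u, hu1⟩, h1, hfu⟩
  have hQeq : Q.map f = RQ := by
    symm
    apply Subgroup.eq_of_le_of_card_ge hQle
    rw [Nat.card_congr (Q.equivMapOfInjective f hfinj).symm.toEquiv, hcard, hR512]
    norm_num
  -- a generator
  have hcyc : IsCyclic B := isCyclic_of_prime_card (p := 5) (hp := ⟨Nat.prime_five⟩) hB
  obtain ⟨g, hg⟩ := IsCyclic.exists_generator (α := B)
  have hBg : B = Subgroup.zpowers (g : C) := by
    apply le_antisymm
    · intro x hx
      obtain ⟨k, hk⟩ := Subgroup.mem_zpowers_iff.1 (hg ⟨x, hx⟩)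
      exact Subgroup.mem_zpowers_iff.2 ⟨k, by rw [← SubgroupClass.coe_zpow, hk]⟩
    · rw [Subgroup.zpowers_le]; exact g.2
  set s : Spor.Co1 := f g with hs
  have hBs : (B.map C.subtype).map ψ.toMonoidHom = Subgroup.zpowers s := by
    rw [Subgroup.map_map]
    show B.map f = _
    rw [hBg, MonoidHom.map_zpowers]
  have hos : orderOf s = 5 := by
    rw [← Nat.card_zpowers, ← hBs, Subgroup.map_map,
      Nat.card_congr (B.equivMapOfInjective f hfinj).symm.toEquiv, hB]
  have hsz : s * z = z * s := mem_centralizer_singleton_iff.1 (hfC g)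
  have hcent : (Q ⊓ centralizer (B : Set C)).map f = RQ ⊓ centralizer ({s} : Set Spor.Co1) := by
    ext u
    constructor
    · rintro ⟨x, ⟨hx1, hx2⟩, rfl⟩
      refine ⟨by rw [← hQeq]; exact ⟨x, hx1, rfl⟩, ?_⟩
      have h1 := mem_centralizer_iff.1 hx2 g g.2
      show f x ∈ centralizer ({s} : Set Spor.Co1)
      rw [mem_centralizer_singleton_iff, hs, ← map_mul, ← map_mul, h1]
    · rintro ⟨hu1, hu2⟩
      have hu2 : u ∈ centralizer ({s} : Set Spor.Co1) := hu2
      have hu1' : u ∈ Q.map f := by rw [hQeq]; exact hu1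
      obtain ⟨x, hx, rfl⟩ := hu1'
      refine ⟨x, ⟨hx, ?_⟩, rfl⟩
      show x ∈ centralizer (B : Set C)
      rw [mem_centralizer_singleton_iff, hs, ← map_mul, ← map_mul] at hu2
      have h1 : x * (g : C) = g * x := hfinj hu2
      rw [hBg, Transport.centralizer_zpowers, mem_centralizer_singleton_iff]
      exact h1
  have h32' : Nat.card ↥(RQ ⊓ centralizer ({s} : Set Spor.Co1)) = 32 := by
    rw [← hcent, Nat.card_congr ((Q ⊓ centralizer (B : Set C)).equivMapOfInjective f hfinj).symm.toEquiv, h32]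
  obtain ⟨c, hc⟩ := isConj_iff.1 (isConj_p1 hcD hos hsz h32')
  refine ⟨ψ.trans (MulAut.conj c), ?_⟩
  have h1 : (B.map C.subtype).map (ψ.trans (MulAut.conj c)).toMonoidHom =
      ((B.map C.subtype).map ψ.toMonoidHom).map (MulAut.conj c).toMonoidHom := by
    rw [Subgroup.map_map (B.map C.subtype)]; rfl
  rw [h1, hBs, MonoidHom.map_zpowers]
  have h2 : (MulAut.conj c).toMonoidHom s = c * s * c⁻¹ := rfl
  rw [h2, hc]

theorem main {G : Type*} [Group G] [Finite G] (y : G) (hz : orderOf y = 2)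
    (Q : Subgroup (centralizer ({y} : Set G))) [Q.Normal]
    (hF : Cfsg.generalizedFittingSubgroup (centralizer ({y} : Set G)) = Q) (hcard : Nat.card Q = 2 ^ 9)
    (e : (centralizer ({y} : Set G)) ⧸ Q ≃* Cfsg.Omega (ZMod 2) (Cfsg.quadFormPlus 4 (ZMod 2)))
    (B : Subgroup (centralizer ({y} : Set G))) (hB : Nat.card B = 5)
    (h32 : Nat.card ↥(Q ⊓ centralizer (B : Set (centralizer ({y} : Set G)))) = 32) (hG : Spor.IsoCo1 G) :
    Concl (centralizer ((B.map (Subgroup.subtype (centralizer ({y} : Set G))) : Subgroup G) : Set G)) := by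
  have hC : Nat.card (centralizer ({y} : Set G)) = 89181388800 := by
    rw [Subgroup.card_eq_card_quotient_mul_card_subgroup Q, hcard, Nat.card_congr e.toEquiv,
      Cfsg.Agent.LargeExtra.Cards.card_omega_plus_eight]
    norm_num
  obtain ⟨ψ₀⟩ := hG
  obtain ⟨ψ, hψ⟩ := exists_iso ψ₀ hz hC
  obtain ⟨ψ', hψ'⟩ := exists_iso_aux y _ rfl Q hF hcard hC B hB h32 ψ hψ
  refine Concl.of_equiv ψ' ?_ concl_C1
  rw [Transport.map_centralizer, hψ', Transport.centralizer_zpowers]

end Cfsg.Agent.H812.CoFiveMain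
end

private theorem dce_4b499db3d625 : _root_.True := by
  try have : _root_.True := by simp only [_root_.Cfsg.Agent.StdG24.PWords.y.eq_1]
  try have : _root_.True := by simp only [_root_.Cfsg.Agent.StdG24.PWords.r.eq_1]
  try have : _root_.True := by simp only [_root_.Cfsg.Agent.StdG24.PWords.q.eq_1]
  try have : _root_.True := by simp only [_root_.Cfsg.Agent.StdG24.PWords.s.eq_1]
  try have : _root_.True := by simp only [_root_.Cfsg.Agent.StdG24.PWords.x.eq_1]
  try have : _root_.True := by simp only [_root_.Cfsg.Agent.StdG24.PWords.t.eq_1]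
  exact _root_.True.intro
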